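import Groth.Agent.EtaleSite.Stalk
import Groth.Agent.EtaleSite.Points
import Groth.Prelude.Def_CohProp

/-!
# Trivialisations of sheaves of sets on the small étale site
-/

set_option autoImplicit false
set_option linter.style.haveILetI false

universe u

open CategoryTheory CategoryTheory.Limits AlgebraicGeometry Opposite

namespace Groth.Agent.EtLocConstSets

variable {X : Scheme.{u}}

/-- `m : M → F(W)` gives near every geometric point of every `V ⟶ W` exactly one value. -/
def IsTriv (F : EtDesc.Sh X) (W : X.Etale) (M : Type (u + 1)) (m : M → F.obj.obj (op W)) : Prop :=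
  ∀ (V : X.Etale) (g : V ⟶ W) (Ω : Type u) [Field Ω] [IsSepClosed Ω]
    (ξ : Spec (CommRingCat.of Ω) ⟶ X) (φ : (Scheme.pointSmallEtale ξ).fiber.obj V),
    (∀ x y, F.obj.map g.op (m x) = F.obj.map g.op (m y) → x = y) ∧
    ∀ s : F.obj.obj (op V), ∃ (V' : X.Etale) (k : V' ⟶ V) (φ' : (Scheme.pointSmallEtale ξ).fiber.obj V') (x : M),
      (Scheme.pointSmallEtale ξ).fiber.map k φ' = φ ∧ F.obj.map (k ≫ g).op (m x) = F.obj.map k.op s

/-- The map of presheaves on the over category given by `M → F(W)`. -/
noncomputable def constNat (F : EtDesc.Sh X) (W : X.Etale) {M : Type (u + 1)} (m : M → F.obj.obj (op W)) :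
    (Functor.const (Over W)ᵒᵖ).obj M ⟶ (F.over W).obj where
  app V := TypeCat.ofHom fun x => F.obj.map V.unop.hom.op (m x)
  naturality V V' f := by
    ext x
    show F.obj.map V'.unop.hom.op (m x) = F.obj.map f.unop.left.op (F.obj.map V.unop.hom.op (m x))
    rw [← Over.w f.unop, op_comp, Functor.map_comp]
    rfl

theorem W_constNat {F : EtDesc.Sh X} {W : X.Etale} {M : Type (u + 1)} {m : M → F.obj.obj (op W)}
    (h : IsTriv F W M m) : (X.smallEtaleTopology.over W).W (constNat F W m) := by
  haveI : Presheaf.IsLocallyInjective (X.smallEtaleTopology.over W) (constNat F W m) :=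
    { equalizerSieve_mem := fun {V} x y e => by
        rw [GrothendieckTopology.mem_over_iff]
        refine EtaleSite.mem_topology_of_forall_geomPoint _ fun Ω _ _ ξ φ => ?_
        have hxy : x = y := (h V.unop.left V.unop.hom Ω ξ φ).1 x y e
        refine ⟨V.unop.left, 𝟙 _, φ, ?_, congrArg (fun k => k φ) ((Scheme.pointSmallEtale ξ).fiber.map_id _)⟩
        refine (Sieve.overEquiv_iff _ _).2 ?_
        show x = y
        exact hxy }
  haveI : Presheaf.IsLocallySurjective (X.smallEtaleTopology.over W) (constNat F W m) :=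
    { imageSieve_mem := fun {V} s => by
        rw [GrothendieckTopology.mem_over_iff]
        refine EtaleSite.mem_topology_of_forall_geomPoint _ fun Ω _ _ ξ φ => ?_
        obtain ⟨V', k, φ', x, hk, hx⟩ := (h V.left V.hom Ω ξ φ).2 s
        exact ⟨V', k, φ', (Sieve.overEquiv_iff _ _).2 ⟨x, hx⟩, hk⟩ }
  exact (X.smallEtaleTopology.over W).W_of_isLocallyBijective _

/-- A trivialised sheaf is constant on the trivialising object. -/
theorem nonempty_iso_constantSheaf {F : EtDesc.Sh X} {W : X.Etale} {M : Type (u + 1)}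
    {m : M → F.obj.obj (op W)} (h : IsTriv F W M m) :
    Nonempty (F.over W ≅ (constantSheaf (X.smallEtaleTopology.over W) (Type (u + 1))).obj M) := by
  let a : (constantSheaf (X.smallEtaleTopology.over W) (Type (u + 1))).obj M ⟶ F.over W :=
    ⟨sheafifyLift (X.smallEtaleTopology.over W) (constNat F W m) (F.over W).property⟩
  haveI : IsIso a := by
    rw [← (X.smallEtaleTopology.over W).W_sheafToPresheaf_map_iff_isIso]
    refine MorphismProperty.of_precomp _
      (toSheafify (X.smallEtaleTopology.over W) ((Functor.const (Over W)ᵒᵖ).obj M)) _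
      ((X.smallEtaleTopology.over W).W_toSheafify _) ?_
    show (X.smallEtaleTopology.over W).W (_ ≫ a.hom)
    convert W_constNat h using 1
    exact toSheafify_sheafifyLift _ _ _
  exact ⟨(asIso a).symm⟩

/-- The constant sheaf is trivialised on every object by its constant sections. -/
theorem isTriv_constSh (W : X.Etale) (M : Type (u + 1)) :
    IsTriv (CohProp.constSh X M) W M fun x => (toSheafify X.smallEtaleTopology ((Functor.const X.Etaleᵒᵖ).obj M)).app (op W) x := by
  intro V g Ω _ _ ξ φ
  let η := toSheafify X.smallEtaleTopology ((Functor.const X.Etaleᵒᵖ).obj M)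
  have hη := (X.smallEtaleTopology.W_iff_isLocallyBijective η).1 (X.smallEtaleTopology.W_toSheafify _)
  have hnat : ∀ {A B : X.Etale} (k : B ⟶ A) (x : M),
      (CohProp.constSh X M).obj.map k.op (η.app (op A) x) = η.app (op B) x := fun k x =>
    (NatTrans.naturality_apply η k.op x).symm
  refine ⟨fun x y e => ?_, fun s => ?_⟩
  · haveI := hη.1
    rw [hnat g x, hnat g y] at e
    obtain ⟨V', k, hk, φ', -⟩ := (Scheme.pointSmallEtale ξ).jointly_surjective _
      (Presheaf.equalizerSieve_mem X.smallEtaleTopology η (X := op V) x y e) φ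
    exact hk
  · haveI := hη.2
    obtain ⟨V', k, ⟨x, hx⟩, φ', hk⟩ := (Scheme.pointSmallEtale ξ).jointly_surjective _
      (Presheaf.imageSieve_mem X.smallEtaleTopology η (U := op V) s) φ
    exact ⟨V', k, φ', x, hk, (hnat (k ≫ g) x).trans hx⟩

/-- A trivialised sheaf is isomorphic to the restriction of the constant sheaf. -/
theorem nonempty_over_iso_constSh {F : EtDesc.Sh X} {W : X.Etale} {M : Type (u + 1)}
    {m : M → F.obj.obj (op W)} (h : IsTriv F W M m) :
    Nonempty (F.over W ≅ (CohProp.constSh X M).over W) := by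
  obtain ⟨a⟩ := nonempty_iso_constantSheaf h
  obtain ⟨b⟩ := nonempty_iso_constantSheaf (isTriv_constSh W M)
  exact ⟨a ≪≫ b.symm⟩

end Groth.Agent.EtLocConstSets
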